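import Mathlib

/-!
Descending finite type and formal unramifiedness along quotients by nilpotent ideals.
-/

set_option autoImplicit false

universe u

namespace Groth.Agent.ThickProps

variable {R B R₀ B₀ : Type u} [CommRing R] [CommRing B] [CommRing R₀] [CommRing B₀]
  [Algebra R B] [Algebra R R₀] [Algebra R B₀] [Algebra B B₀] [Algebra R₀ B₀]
  [IsScalarTower R B B₀] [IsScalarTower R R₀ B₀]

theorem ker_le_map [Algebra.IsPushout R R₀ B B₀] (hR : Function.Surjective (algebraMap R R₀)) :
    RingHom.ker (algebraMap B B₀) ≤ Ideal.map (algebraMap R B) (RingHom.ker (algebraMap R R₀)) := by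
  intro b hb
  let Q := B ⧸ Ideal.map (algebraMap R B) (RingHom.ker (algebraMap R R₀))
  let ρ : R₀ →ₐ[R] Q := AlgHom.liftOfSurjective (Algebra.ofId R R₀) hR (Algebra.ofId R Q) fun r hr => by
    show algebraMap R Q r = 0
    rw [IsScalarTower.algebraMap_apply R B Q]
    exact Ideal.Quotient.eq_zero_iff_mem.mpr (Ideal.mem_map_of_mem _ hr)
  let ψ := Algebra.pushoutDesc B₀ ρ (IsScalarTower.toAlgHom R B Q) fun x y => Commute.all _ _
  have : ψ (algebraMap B B₀ b) = algebraMap B Q b := Algebra.pushoutDesc_right _ _ _ _ b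
  rw [RingHom.mem_ker.mp hb, map_zero] at this
  exact Ideal.Quotient.eq_zero_iff_mem.mp this.symm

omit [CommRing R₀] [CommRing B₀] in
theorem eq_bot_of_le_smul_of_isNilpotent {M : Type u} [AddCommGroup M] [Module B M] (J : Ideal B)
    (hJ : IsNilpotent J) (N : Submodule B M) (h : N ≤ J • N) : N = ⊥ := by
  obtain ⟨n, hn⟩ := hJ
  have : ∀ k, N ≤ J ^ k • N := by
    intro k
    induction k with
    | zero => rw [pow_zero, Ideal.one_eq_top, Submodule.top_smul]
    | succ k ih => exact ih.trans (by rw [pow_succ, Submodule.mul_smul]; exact Submodule.smul_mono le_rfl h)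
  exact eq_bot_iff.mpr ((this n).trans (by rw [hn]; simp))

theorem finiteType_of_nilpotent [Algebra.IsPushout R R₀ B B₀] [Algebra.FiniteType R₀ B₀]
    (hR : Function.Surjective (algebraMap R R₀)) (hB : Function.Surjective (algebraMap B B₀))
    (hI : IsNilpotent (RingHom.ker (algebraMap R R₀))) : Algebra.FiniteType R B := by
  classical
  set I := RingHom.ker (algebraMap R R₀)
  have : Algebra.FiniteType R R₀ := Algebra.FiniteType.of_surjective (Algebra.ofId R R₀) hR
  have : Algebra.FiniteType R B₀ := Algebra.FiniteType.trans (S := R₀) inferInstance inferInstance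
  obtain ⟨s, hs⟩ := this.out
  choose l hl using hB
  let C : Subalgebra R B := Algebra.adjoin R ((s.image l : Finset B) : Set B)
  have h1 : (⊤ : Submodule R B) ≤ C.toSubmodule ⊔ I • ⊤ := by
    intro b _
    have hmem : algebraMap B B₀ b ∈ C.map (IsScalarTower.toAlgHom R B B₀) := by
      rw [AlgHom.map_adjoin]
      have : (IsScalarTower.toAlgHom R B B₀) '' ((s.image l : Finset B) : Set B) = s := by
        rw [Finset.coe_image, Set.image_image]
        simp [hl]
      rw [this, hs]
      trivial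
    obtain ⟨c, hc, hcb⟩ := hmem
    refine Submodule.mem_sup.mpr ⟨c, hc, b - c, ?_, add_sub_cancel _ _⟩
    have hk : b - c ∈ RingHom.ker (algebraMap B B₀) := by
      rw [RingHom.mem_ker, map_sub, sub_eq_zero]
      exact hcb.symm
    rw [Ideal.smul_top_eq_map]
    exact ker_le_map hR hk
  obtain ⟨n, hn⟩ := hI
  have h2 : ∀ k, I • (⊤ : Submodule R B) ≤ C.toSubmodule ⊔ I ^ (k + 1) • ⊤ := by
    intro k
    induction k with
    | zero => simp
    | succ k ih =>
      refine ih.trans (sup_le le_sup_left ?_)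
      calc I ^ (k + 1) • (⊤ : Submodule R B) ≤ I ^ (k + 1) • (C.toSubmodule ⊔ I • ⊤) := Submodule.smul_mono le_rfl h1
        _ = I ^ (k + 1) • C.toSubmodule ⊔ I ^ (k + 1 + 1) • ⊤ := by
          rw [Submodule.smul_sup, ← Submodule.mul_smul, ← pow_succ]
        _ ≤ _ := sup_le_sup_right Submodule.smul_le_right _
  refine ⟨⟨s.image l, top_le_iff.mp fun b _ => ?_⟩⟩
  have h3 := (h1.trans (sup_le le_sup_left (h2 n))) (Submodule.mem_top : b ∈ _)
  rw [pow_succ, hn] at h3
  simpa [C] using h3

theorem formallyUnramified_of_nilpotent [Algebra.IsPushout R R₀ B B₀] [Algebra.FormallyUnramified R₀ B₀]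
    (hR : Function.Surjective (algebraMap R R₀)) (hB : Function.Surjective (algebraMap B B₀))
    (hI : IsNilpotent (RingHom.ker (algebraMap R R₀)) ∨
      (RingHom.ker (algebraMap R R₀) ≤ nilradical R ∧ Algebra.FiniteType R B)) :
    Algebra.FormallyUnramified R B := by
  set J := RingHom.ker (algebraMap B B₀)
  have h1 : (⊤ : Submodule B Ω[B⁄R]) ≤ J • ⊤ := fun w _ => by
    have h0 : Subsingleton (TensorProduct B B₀ Ω[B⁄R]) :=
      (KaehlerDifferential.tensorKaehlerEquiv R R₀ B B₀).toEquiv.subsingleton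
    let e : (B ⧸ J) ≃ₗ[B] B₀ := (Ideal.quotientKerAlgEquivOfSurjective (f := Algebra.ofId B B₀) hB).toLinearEquiv
    have h2 : (TensorProduct.congr e (LinearEquiv.refl B Ω[B⁄R])).symm ((1 : B₀) ⊗ₜ w) = 0 := by
      rw [Subsingleton.elim ((1 : B₀) ⊗ₜ[B] w) 0, map_zero]
    have e1 : e.symm 1 = Ideal.Quotient.mk J 1 := by
      rw [LinearEquiv.symm_apply_eq]; exact (map_one (Ideal.quotientKerAlgEquivOfSurjective (f := Algebra.ofId B B₀) hB)).symm
    have := congrArg (TensorProduct.quotTensorEquivQuotSMul Ω[B⁄R] J) h2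
    rw [TensorProduct.congr_symm_tmul, e1, LinearEquiv.refl_symm, LinearEquiv.refl_apply, map_zero,
      TensorProduct.quotTensorEquivQuotSMul_mk_tmul, one_smul] at this
    exact (Submodule.Quotient.mk_eq_zero _).mp this
  refine ⟨?_⟩
  suffices (⊤ : Submodule B Ω[B⁄R]) = ⊥ from (Submodule.subsingleton_iff B).mp (subsingleton_of_top_le_bot this.le)
  rcases hI with ⟨n, hn⟩ | ⟨hn, hfin⟩
  · refine eq_bot_of_le_smul_of_isNilpotent J ⟨n, ?_⟩ _ h1
    rw [Ideal.zero_eq_bot, eq_bot_iff]
    refine (Ideal.pow_right_mono (ker_le_map hR) n).trans ?_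
    rw [← Ideal.map_pow, hn]
    simp
  · refine Submodule.eq_bot_of_le_smul_of_le_jacobson_bot J _ Module.Finite.fg_top h1 ?_
    refine (ker_le_map hR).trans (Ideal.map_le_iff_le_comap.mpr fun r hr => ?_)
    show algebraMap R B r ∈ Ideal.jacobson ⊥
    rw [Ideal.mem_jacobson_bot]
    intro y
    exact ((Commute.all _ y).isNilpotent_mul_right ((mem_nilradical.mp (hn hr)).map (algebraMap R B))).isUnit_add_one

end Groth.Agent.ThickProps
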