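import Groth.Agent.ThickProps.Basic
import Groth.Agent.ThickProps.NilpRing

/-!
Properties of morphisms descending along base change by thickenings.
-/

set_option autoImplicit false
set_option backward.isDefEq.respectTransparency.types false

universe u

namespace Groth.Agent.ThickProps

open AlgebraicGeometry CategoryTheory Limits

variable {X X' S S' : Scheme.{u}} {iX : X ⟶ X'} {iS : S ⟶ S'} {f : X ⟶ S} {f' : X' ⟶ S'}

/-- The ring squares of a base change along a closed immersion. -/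
theorem isPushout_appLE [IsClosedImmersion iS] (hc : IsPullback iX f f' iS) {U : S'.Opens}
    (hU : IsAffineOpen U) {V : X'.Opens} (hV : IsAffineOpen V) (e : V ≤ f' ⁻¹ᵁ U) :
    ∃ e₀ : iX ⁻¹ᵁ V ≤ f ⁻¹ᵁ (iS ⁻¹ᵁ U),
      IsPushout (f'.appLE U V e) (iS.app U) (iX.app V) (f.appLE (iS ⁻¹ᵁ U) (iX ⁻¹ᵁ V) e₀) ∧
      Function.Surjective (iS.app U) ∧ Function.Surjective (iX.app V) ∧
      IsAffineOpen (iS ⁻¹ᵁ U) ∧ IsAffineOpen (iX ⁻¹ᵁ V) := by
  haveI : IsClosedImmersion iX := MorphismProperty.of_isPullback hc.flip ‹_›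
  have e₀ : iX ⁻¹ᵁ V ≤ f ⁻¹ᵁ (iS ⁻¹ᵁ U) := by
    intro x hx
    have h1 : f' (iX x) ∈ U := e hx
    rwa [← Scheme.Hom.comp_apply, hc.w, Scheme.Hom.comp_apply] at h1
  refine ⟨e₀, ?_, iS.app_surjective U hU, iX.app_surjective V hV, hU.preimage iS, hV.preimage iX⟩
  have hUY : iX ⁻¹ᵁ V = iX ⁻¹ᵁ V ⊓ f ⁻¹ᵁ (iS ⁻¹ᵁ U) := (inf_eq_left.mpr e₀).symm
  have h := (isIso_pushoutSection_iff hc (le_refl (iS ⁻¹ᵁ U)) e hUY).mp
    (isIso_pushoutSection_of_isAffineOpen hc (le_refl _) e hUY hU (hU.preimage iS) hV)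
  simp only [Scheme.Hom.appLE_eq_app] at h
  exact h

theorem isNilpotent_ker_app [IsClosedImmersion iS] (hn : IsNilpotent iS.ker) {U : S'.Opens}
    (hU : IsAffineOpen U) : IsNilpotent (RingHom.ker (iS.app U).hom) := by
  obtain ⟨n, hn⟩ := hn
  refine ⟨n, ?_⟩
  have := congrArg (fun J : S'.IdealSheafData => J.ideal ⟨U, hU⟩) hn
  simpa [Scheme.Hom.ker_apply] using this

theorem ker_app_le_nilradical [Surjective iS] {U : S'.Opens} (hU : IsAffineOpen U) :
    RingHom.ker (iS.app U).hom ≤ nilradical Γ(S', U) := by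
  intro a ha
  rw [mem_nilradical, Scheme.isNilpotent_iff_basicOpen_eq_bot_of_isCompact hU.isCompact]
  have h : iS ⁻¹ᵁ S'.basicOpen a = ⊥ := by
    rw [Scheme.preimage_basicOpen, show iS.app U a = 0 from ha, Scheme.basicOpen_zero]
  ext s
  simp only [TopologicalSpace.Opens.coe_bot, Set.mem_empty_iff_false, iff_false, SetLike.mem_coe]
  intro hs
  obtain ⟨x, rfl⟩ := iS.surjective s
  have : x ∈ iS ⁻¹ᵁ S'.basicOpen a := hs
  rw [h] at this
  exact this

theorem formallyUnramified_of_isPullback [IsClosedImmersion iS] [Surjective iS] (hc : IsPullback iX f f' iS)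
    [FormallyUnramified f] (h : IsNilpotent iS.ker ∨ LocallyOfFiniteType f') : FormallyUnramified f' := by
  refine ⟨fun {U} hU {V} hV e => ?_⟩
  obtain ⟨e₀, hp, hs, hs', hU₀, hV₀⟩ := isPushout_appLE hc hU hV e
  have hQ := f.formallyUnramified_appLE hU₀ hV₀ e₀
  algebraize [(f'.appLE U V e).hom, (iS.app U).hom, (iX.app V).hom, (f.appLE _ _ e₀).hom,
    ((iX.app V).hom.comp (f'.appLE U V e).hom)]
  haveI : IsScalarTower Γ(S', U) Γ(S, iS ⁻¹ᵁ U) Γ(X, iX ⁻¹ᵁ V) :=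
    IsScalarTower.of_algebraMap_eq' (congrArg CommRingCat.Hom.hom hp.w)
  haveI : Algebra.IsPushout Γ(S', U) Γ(S, iS ⁻¹ᵁ U) Γ(X', V) Γ(X, iX ⁻¹ᵁ V) :=
    CommRingCat.isPushout_iff_isPushout.mp hp.flip
  refine formallyUnramified_of_nilpotent hs hs' ?_
  rcases h with hn | hf
  · exact Or.inl (isNilpotent_ker_app hn hU)
  · exact Or.inr ⟨ker_app_le_nilradical hU, f'.finiteType_appLE hU hV e⟩

theorem locallyOfFiniteType_of_isPullback [IsClosedImmersion iS] (hc : IsPullback iX f f' iS)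
    [LocallyOfFiniteType f] (hn : IsNilpotent iS.ker) : LocallyOfFiniteType f' := by
  refine ⟨fun {U} hU {V} hV e => ?_⟩
  obtain ⟨e₀, hp, hs, hs', hU₀, hV₀⟩ := isPushout_appLE hc hU hV e
  have hQ := f.finiteType_appLE hU₀ hV₀ e₀
  algebraize [(f'.appLE U V e).hom, (iS.app U).hom, (iX.app V).hom, (f.appLE _ _ e₀).hom,
    ((iX.app V).hom.comp (f'.appLE U V e).hom)]
  haveI : IsScalarTower Γ(S', U) Γ(S, iS ⁻¹ᵁ U) Γ(X, iX ⁻¹ᵁ V) :=
    IsScalarTower.of_algebraMap_eq' (congrArg CommRingCat.Hom.hom hp.w)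
  haveI : Algebra.IsPushout Γ(S', U) Γ(S, iS ⁻¹ᵁ U) Γ(X', V) Γ(X, iX ⁻¹ᵁ V) :=
    CommRingCat.isPushout_iff_isPushout.mp hp.flip
  exact finiteType_of_nilpotent hs hs' (isNilpotent_ker_app hn hU)

theorem mono_of_isPullback [IsClosedImmersion iS] [Surjective iS] (hc : IsPullback iX f f' iS)
    [Mono f] [LocallyOfFiniteType f'] : Mono f' := by
  haveI : IsClosedImmersion iX := MorphismProperty.of_isPullback hc.flip ‹_›
  haveI : Surjective iX := MorphismProperty.of_isPullback hc.flip ‹_›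
  haveI : UniversallyInjective (iX ≫ f') := by
    rw [hc.w]
    exact MorphismProperty.comp_mem _ _ _ inferInstance inferInstance
  haveI := universallyInjective_of_comp_surjective iX f'
  haveI : FormallyUnramified f := by
    haveI : IsIso (pullback.diagonal f) := (pullback.isIso_diagonal_iff f).mpr ‹_›
    infer_instance
  haveI := formallyUnramified_of_isPullback hc (Or.inr ‹LocallyOfFiniteType f'›)
  haveI : Surjective (pullback.diagonal f') := (UniversallyInjective.iff_diagonal f').mp ‹_›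
  haveI : IsIso (pullback.diagonal f') := isIso_iff_isOpenImmersion_and_epi_base _ |>.mpr
    ⟨inferInstance, (TopCat.epi_iff_surjective _).mpr (pullback.diagonal f').surjective⟩
  exact (pullback.isIso_diagonal_iff f').mp ‹_›

theorem isNilpotent_ker_fst {T : Scheme.{u}} [IsAffine T] [IsClosedImmersion iS] (hn : IsNilpotent iS.ker)
    (g : T ⟶ S') {U : S'.Opens} (hU : IsAffineOpen U) (hg : (⊤ : T.Opens) ≤ g ⁻¹ᵁ U) :
    IsNilpotent (pullback.fst g iS).ker := by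
  obtain ⟨e₀, hp, hs, hs', hU₀, hV₀⟩ := isPushout_appLE (IsPullback.of_hasPullback g iS) hU (isAffineOpen_top T) hg
  obtain ⟨n, hn⟩ := isNilpotent_ker_app hn hU
  algebraize [(g.appLE U ⊤ hg).hom, (iS.app U).hom, ((pullback.fst g iS).app ⊤).hom,
    ((pullback.snd g iS).appLE _ _ e₀).hom, (((pullback.fst g iS).app ⊤).hom.comp (g.appLE U ⊤ hg).hom)]
  haveI : IsScalarTower Γ(S', U) Γ(S, iS ⁻¹ᵁ U) Γ(pullback g iS, pullback.fst g iS ⁻¹ᵁ ⊤) :=
    IsScalarTower.of_algebraMap_eq' (congrArg CommRingCat.Hom.hom hp.w)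
  haveI : Algebra.IsPushout Γ(S', U) Γ(S, iS ⁻¹ᵁ U) Γ(T, ⊤) Γ(pullback g iS, pullback.fst g iS ⁻¹ᵁ ⊤) :=
    CommRingCat.isPushout_iff_isPushout.mp hp.flip
  have h := ker_le_map (R := Γ(S', U)) (B := Γ(T, ⊤)) (R₀ := Γ(S, iS ⁻¹ᵁ U))
    (B₀ := Γ(pullback g iS, pullback.fst g iS ⁻¹ᵁ ⊤)) hs
  refine ⟨n, Scheme.IdealSheafData.ext_of_isAffine ?_⟩
  simp only [Scheme.IdealSheafData.ideal_pow, Pi.pow_apply, Scheme.Hom.ker_apply]
  refine (eq_bot_iff.mpr ?_).trans ?_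
  · refine (Ideal.pow_right_mono h n).trans ?_
    rw [← Ideal.map_pow]
    erw [hn]
    simp
  · simp

/-- Monomorphisms descend along finite order thickenings. -/
theorem mono_of_isPullback_of_isNilpotent [IsClosedImmersion iS] [Surjective iS] (hc : IsPullback iX f f' iS)
    [Mono f] (hn : IsNilpotent iS.ker) : Mono f' := by
  haveI : FormallyUnramified f := by
    haveI : IsIso (pullback.diagonal f) := (pullback.isIso_diagonal_iff f).mpr ‹_›
    infer_instance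
  haveI := formallyUnramified_of_isPullback hc (Or.inl hn)
  refine ⟨fun {T} a b hab => Scheme.hom_ext_of_forall _ _ fun t => ?_⟩
  obtain ⟨_, ⟨U, hU, rfl⟩, htU, -⟩ :=
    S'.isBasis_affineOpens.exists_subset_of_mem_open (Set.mem_univ ((a ≫ f') t)) isOpen_univ
  obtain ⟨_, ⟨W, hW, rfl⟩, htW, hWU⟩ :=
    T.isBasis_affineOpens.exists_subset_of_mem_open htU ((a ≫ f') ⁻¹ᵁ U).isOpen
  refine ⟨W, htW, ?_⟩
  haveI : IsAffine (Scheme.Opens.toScheme W) := hW
  have hg : (⊤ : (Scheme.Opens.toScheme W).Opens) ≤ ((Scheme.Opens.ι W) ≫ a ≫ f') ⁻¹ᵁ U := fun w _ => hWU (Subtype.property w)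
  refine FormallyUnramified.hom_ext (pullback.fst ((Scheme.Opens.ι W) ≫ a ≫ f') iS)
    (isNilpotent_ker_fst hn _ hU hg) f' ?_ (by simp [hab])
  let a₀ := hc.lift (pullback.fst ((Scheme.Opens.ι W) ≫ a ≫ f') iS ≫ (Scheme.Opens.ι W) ≫ a) (pullback.snd _ _) (by simp [pullback.condition])
  let b₀ := hc.lift (pullback.fst ((Scheme.Opens.ι W) ≫ a ≫ f') iS ≫ (Scheme.Opens.ι W) ≫ b) (pullback.snd _ _) (by simp [← hab, pullback.condition])
  have : a₀ = b₀ := (cancel_mono f).mp (by rw [hc.lift_snd, hc.lift_snd])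
  rw [← hc.lift_fst (pullback.fst ((Scheme.Opens.ι W) ≫ a ≫ f') iS ≫ (Scheme.Opens.ι W) ≫ a) (pullback.snd _ _) (by simp [pullback.condition]),
    ← hc.lift_fst (pullback.fst ((Scheme.Opens.ι W) ≫ a ≫ f') iS ≫ (Scheme.Opens.ι W) ≫ b) (pullback.snd _ _) (by simp [← hab, pullback.condition])]
  exact congrArg (· ≫ iX) this

end Groth.Agent.ThickProps
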