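import Mathlib

/-!
Cancelling surjective maps on the left and monomorphisms on the right for topological properties
of morphisms of schemes; surjective closed immersions are universally open.
-/

set_option autoImplicit false
set_option backward.isDefEq.respectTransparency.types false

universe u

namespace Groth.Agent.ThickProps

open AlgebraicGeometry CategoryTheory Limits

variable {X Y Z : Scheme.{u}}

theorem universallyOpen_of_surjective_closedImmersion (i : X ⟶ Y) [IsClosedImmersion i] [Surjective i] :
    UniversallyOpen i := by
  constructor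
  intro X' Y' i₁ i₂ f' H
  have : IsClosedImmersion f' := MorphismProperty.of_isPullback H.flip inferInstance
  have : Surjective f' := MorphismProperty.of_isPullback H.flip inferInstance
  exact (isHomeomorph_iff_isEmbedding_surjective.mpr
    ⟨f'.isClosedEmbedding.isEmbedding, f'.surjective⟩).isOpenMap

theorem quasiCompact_of_comp_surjective (f : X ⟶ Y) (g : Y ⟶ Z) [QuasiCompact (f ≫ g)] [Surjective f] :
    QuasiCompact g := by
  refine ⟨fun U hU hU' => ?_⟩
  have h := (QuasiCompact.isCompact_preimage (f := f ≫ g) U hU hU').image f.continuous
  rwa [show (f ≫ g : X ⟶ Z) ⁻¹' U = f ⁻¹' (g ⁻¹' U) from rfl, Set.image_preimage_eq _ f.surjective] at h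

theorem universallyOpen_of_comp_surjective (f : X ⟶ Y) (g : Y ⟶ Z) [UniversallyOpen (f ≫ g)] [Surjective f] :
    UniversallyOpen g := by
  constructor
  intro X' Y' i₁ i₂ f' H
  have h := UniversallyOpen.universally_isOpenMap _ _ _ ((IsPullback.of_hasPullback i₁ f).paste_horiz H)
  have hs : Function.Surjective (pullback.fst i₁ f) :=
    (MorphismProperty.pullback_fst (P := @Surjective) _ _ ‹_›).1
  intro V hV
  rw [← Set.image_preimage_eq V hs, Set.image_image]
  exact h _ (hV.preimage (pullback.fst i₁ f).continuous)

theorem universallyInjective_of_comp_surjective (f : X ⟶ Y) (g : Y ⟶ Z) [UniversallyInjective (f ≫ g)] [Surjective f] :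
    UniversallyInjective g := by
  rw [UniversallyInjective.iff_diagonal]
  have : Surjective (pullback.diagonal (f ≫ g)) := (UniversallyInjective.iff_diagonal _).mp ‹_›
  have : Surjective (pullback.map (f ≫ g) (f ≫ g) g g f f (𝟙 _) (by simp) (by simp)) :=
    MorphismProperty.pullbackMap (P := @Surjective) ‹_› ‹_› rfl rfl
  have e : f ≫ pullback.diagonal g =
      pullback.diagonal (f ≫ g) ≫ pullback.map (f ≫ g) (f ≫ g) g g f f (𝟙 _) (by simp) (by simp) := by
    refine pullback.hom_ext ?_ ?_
    · simp only [pullback.map, Category.assoc, pullback.diagonal_fst, pullback.diagonal_snd, Category.comp_id]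
      erw [pullback.lift_fst, pullback.diagonal_fst_assoc]
    · simp only [pullback.map, Category.assoc, pullback.diagonal_fst, pullback.diagonal_snd, Category.comp_id]
      erw [pullback.lift_snd, pullback.diagonal_snd_assoc]
  have : Surjective (f ≫ pullback.diagonal g) := by rw [e]; infer_instance
  exact Surjective.of_comp f _

theorem quasiSeparated_of_comp_surjective (f : X ⟶ Y) (g : Y ⟶ Z) [QuasiSeparated (f ≫ g)] [Surjective f]
    [QuasiCompact f] : QuasiSeparated g := by
  rw [quasiSeparated_iff]
  have : QuasiCompact (pullback.diagonal (f ≫ g)) := QuasiSeparated.quasiCompact_diagonal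
  have : QuasiCompact (pullback.map (f ≫ g) (f ≫ g) g g f f (𝟙 _) (by simp) (by simp)) :=
    MorphismProperty.pullbackMap (P := @QuasiCompact) ‹_› ‹_› rfl rfl
  have e : f ≫ pullback.diagonal g =
      pullback.diagonal (f ≫ g) ≫ pullback.map (f ≫ g) (f ≫ g) g g f f (𝟙 _) (by simp) (by simp) := by
    refine pullback.hom_ext ?_ ?_
    · simp only [pullback.map, Category.assoc, pullback.diagonal_fst, pullback.diagonal_snd, Category.comp_id]
      erw [pullback.lift_fst, pullback.diagonal_fst_assoc]
    · simp only [pullback.map, Category.assoc, pullback.diagonal_fst, pullback.diagonal_snd, Category.comp_id]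
      erw [pullback.lift_snd, pullback.diagonal_snd_assoc]
  have : QuasiCompact (f ≫ pullback.diagonal g) := by rw [e]; infer_instance
  exact quasiCompact_of_comp_surjective f _

/-- A property stable under base change cancels monomorphisms on the right. -/
theorem of_comp_mono (P : MorphismProperty Scheme.{u}) [P.IsStableUnderBaseChange] (f : X ⟶ Y) (g : Y ⟶ Z)
    [Mono g] (h : P (f ≫ g)) : P f :=
  MorphismProperty.of_postcomp P (W' := MorphismProperty.monomorphisms _) f g ‹Mono g› h

end Groth.Agent.ThickProps
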