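import Groth.Agent.ThickProps.Descend
import Groth.Agent.IdealComap.Basic
import Groth.Agent.S3857
import Mathlib.AlgebraicGeometry.Morphisms.FlatDescent
import Mathlib.AlgebraicGeometry.Morphisms.Immersion

/-!
# Isomorphisms and open immersions deform along thickenings
-/

set_option autoImplicit false
set_option linter.style.haveILetI false

universe u

namespace Groth.Agent.ThickProps

open AlgebraicGeometry CategoryTheory Limits

/-- A flat surjective quasi-compact monomorphism is an isomorphism. -/
theorem isIso_of_flat_mono_surjective {X Y : Scheme.{u}} (h : X ⟶ Y) [Mono h] [Flat h] [Surjective h]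
    [QuasiCompact h] : IsIso h := by
  have sq : IsPullback (𝟙 X) (𝟙 X) h h := IsKernelPair.id_of_mono h
  exact MorphismProperty.of_isPullback_of_descendsAlong (P := MorphismProperty.isomorphisms Scheme.{u})
    (Q := @Surjective ⊓ @Flat ⊓ @QuasiCompact) sq
    ⟨⟨inferInstance, inferInstance⟩, inferInstance⟩
    (show IsIso (𝟙 X) from inferInstance)

/-- A flat monomorphism which is topologically an open embedding is an open immersion. -/
theorem isOpenImmersion_of_flat_mono {X Y : Scheme.{u}} (f : X ⟶ Y) [Mono f] [Flat f]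
    (hf : Topology.IsOpenEmbedding f) : IsOpenImmersion f := by
  let U : Y.Opens := ⟨Set.range f, hf.isOpen_range⟩
  let h : X ⟶ U.toScheme := IsOpenImmersion.lift U.ι f (by simp [U])
  have e : h ≫ U.ι = f := IsOpenImmersion.lift_fac _ _ _
  haveI : Mono (h ≫ U.ι) := e ▸ ‹Mono f›
  haveI : Mono h := mono_of_mono h U.ι
  haveI : Flat h := MorphismProperty.of_postcomp @Flat (W' := @IsOpenImmersion) h U.ι inferInstance (e ▸ ‹Flat f›)
  have hemb : Topology.IsEmbedding h := by
    refine Topology.IsEmbedding.of_comp h.continuous U.ι.continuous ?_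
    rw [← TopCat.coe_comp, ← Scheme.Hom.comp_base, e]
    exact hf.isEmbedding
  have hs : Function.Surjective h := fun y => by
    obtain ⟨x, hx⟩ : (U.ι y) ∈ Set.range f := by simpa [U] using y.2
    refine ⟨x, U.ι.isOpenEmbedding.injective ?_⟩
    rw [← Scheme.Hom.comp_apply, e]; exact hx
  haveI : Surjective h := ⟨hs⟩
  haveI : QuasiCompact h := ⟨fun V _ hV => hemb.isCompact_iff.mpr (by
    rw [Set.image_preimage_eq _ hs]; exact hV)⟩
  haveI := isIso_of_flat_mono_surjective h
  rw [← e]
  infer_instance

variable {X X' S S' : Scheme.{u}} {iX : X ⟶ X'} {iS : S ⟶ S'} {f : X ⟶ S} {f' : X' ⟶ S'}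

theorem isOpenEmbedding_of_isPullback [IsClosedImmersion iS] [Surjective iS] (hc : IsPullback iX f f' iS)
    [IsOpenImmersion f] : Topology.IsOpenEmbedding f' := by
  haveI hXc : IsClosedImmersion iX := MorphismProperty.of_isPullback hc.flip ‹_›
  haveI hXs : Surjective iX := MorphismProperty.of_isPullback hc.flip ‹_›
  let eX := iX.isClosedEmbedding.isEmbedding.toHomeomorphOfSurjective iX.surjective
  let eS := iS.isClosedEmbedding.isEmbedding.toHomeomorphOfSurjective iS.surjective
  have h : (eS ∘ f) ∘ eX.symm = f' := by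
    funext x
    obtain ⟨z, rfl⟩ := eX.surjective x
    show eS (f (eX.symm (eX z))) = f' (iX z)
    rw [eX.symm_apply_apply, ← Scheme.Hom.comp_apply iX f', hc.w]
    rfl
  rw [← h]
  exact (eS.isOpenEmbedding.comp f.isOpenEmbedding).comp eX.symm.isOpenEmbedding

/-- The kernel of the base change of a finite order thickening is nilpotent. -/
theorem isNilpotent_ker_of_isPullback {Y Y' : Scheme.{u}} {iY : Y ⟶ Y'} {g : Y ⟶ S} {g' : Y' ⟶ S'}
    [IsClosedImmersion iS] (hc : IsPullback iY g g' iS) (hn : IsNilpotent iS.ker) : IsNilpotent iY.ker := by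
  obtain ⟨n, hn⟩ := hn
  refine ⟨n, ?_⟩
  rw [S3857.ker_eq_comap hc, ← S3857.comap_pow, hn]
  refine Scheme.IdealSheafData.ext (funext fun U => ?_)
  exact le_antisymm (le_trans (by simp) le_rfl) bot_le

theorem isIso_iff_open_surj [IsClosedImmersion iS] [Surjective iS] (hc : IsPullback iX f f' iS)
    [IsIso f] [IsOpenImmersion f'] : IsIso f' := by
  haveI : Surjective (f ≫ iS) := inferInstance
  haveI : Surjective (iX ≫ f') := by rw [hc.w]; infer_instance
  haveI := Surjective.of_comp iX f'
  exact (isIso_iff_isOpenImmersion_and_epi_base f').mpr ⟨inferInstance, (TopCat.epi_iff_surjective _).mpr f'.surjective⟩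

end Groth.Agent.ThickProps
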