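import Groth.Agent.ThickProps.Descend
import Mathlib.RingTheory.Flat.EquationalCriterion
import Mathlib.RingTheory.FinitePresentation

/-!
# Finite presentation deforms along finite order thickenings, given flatness
-/

set_option autoImplicit false
set_option linter.style.haveILetI false
set_option backward.isDefEq.respectTransparency.types false

universe u

namespace Groth.Agent.ThickProps

open AlgebraicGeometry CategoryTheory Limits

theorem finitePresentation_of_nilpotent_of_flat {R A B A₀ B₀ : Type u} [CommRing R] [CommRing A] [CommRing B]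
    [CommRing A₀] [CommRing B₀] [Algebra R A] [Algebra A B] [Algebra R B] [IsScalarTower R A B] [Module.Flat R B]
    [Algebra.FiniteType A B] (πA : A →+* A₀) (πB : B →+* B₀) (φ₀ : A₀ →+* B₀)
    (hsq : φ₀.comp πA = πB.comp (algebraMap A B)) (hA : Function.Surjective πA)
    (I : Ideal R) (hI : IsNilpotent I) (hkA : RingHom.ker πA = I.map (algebraMap R A))
    (hB : Function.Surjective πB) (hkB : RingHom.ker πB = I.map (algebraMap R B)) (hfp : φ₀.FinitePresentation) :
    Algebra.FinitePresentation A B := by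
  classical
  obtain ⟨n, π, hπ⟩ := Algebra.FiniteType.iff_quotient_mvPolynomial''.mp ‹Algebra.FiniteType A B›
  let P := MvPolynomial (Fin n) A
  letI := φ₀.toAlgebra
  haveI : Algebra.FinitePresentation A₀ B₀ := hfp
  let π₀ : MvPolynomial (Fin n) A₀ →ₐ[A₀] B₀ := MvPolynomial.aeval fun i => πB (π (MvPolynomial.X i))
  have hcomm : ∀ p : P, π₀ (MvPolynomial.map πA p) = πB (π p) := by
    intro p
    induction p using MvPolynomial.induction_on with
    | C a =>
      rw [MvPolynomial.map_C, ← MvPolynomial.algebraMap_eq, AlgHom.commutes, ← MvPolynomial.algebraMap_eq, AlgHom.commutes]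
      exact RingHom.congr_fun hsq a
    | add p q hp hq => rw [map_add, map_add, map_add, map_add, hp, hq]
    | mul_X p i hp => rw [map_mul, map_mul, map_mul, map_mul, hp, MvPolynomial.map_X, MvPolynomial.aeval_X]
  have hπ₀ : Function.Surjective π₀ := fun b₀ => by
    obtain ⟨b, rfl⟩ := hB b₀
    obtain ⟨p, rfl⟩ := hπ b
    exact ⟨_, hcomm p⟩
  obtain ⟨s, hs⟩ := Algebra.FinitePresentation.ker_fG_of_surjective π₀ hπ₀
  have hIP : RingHom.ker (MvPolynomial.map (σ := Fin n) πA) = I.map (algebraMap R P) := by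
    rw [MvPolynomial.ker_map, hkA, Ideal.map_map]
    rfl
  have hlift : ∀ q, π₀ q = 0 → ∃ k : P, π k = 0 ∧ MvPolynomial.map πA k = q := by
    intro q hq
    obtain ⟨p, rfl⟩ := MvPolynomial.map_surjective πA hA q
    have hp : π p ∈ I.map (algebraMap R B) := by rw [← hkB, RingHom.mem_ker, ← hcomm, hq]
    have : (I.map (algebraMap R B)) = (I.map (algebraMap R P)).map π.toRingHom := by
      rw [Ideal.map_map]
      congr 1
      exact RingHom.ext fun r => by
        show algebraMap R B r = π (algebraMap R P r)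
        rw [IsScalarTower.algebraMap_apply R A P, AlgHom.commutes, IsScalarTower.algebraMap_apply R A B]
    rw [this, Ideal.mem_map_iff_of_surjective π.toRingHom hπ] at hp
    obtain ⟨c, hc, hce⟩ := hp
    refine ⟨p - c, by rw [map_sub, ← show π c = π p from hce, sub_self], ?_⟩
    rw [map_sub, show MvPolynomial.map πA c = 0 from RingHom.mem_ker.mp (by rw [hIP]; exact hc), sub_zero]
  choose! l hl0 hl using hlift
  set K : Ideal P := RingHom.ker π
  let K' : Ideal P := Ideal.span (s.image l : Finset P)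
  have hK' : K' ≤ K := Ideal.span_le.mpr fun k hk => by
    obtain ⟨q, hq, rfl⟩ := Finset.mem_image.mp hk
    exact hl0 q (show q ∈ RingHom.ker π₀ from hs ▸ Ideal.subset_span hq)
  have hflat : K ⊓ I.map (algebraMap R P) ≤ I.map (algebraMap R P) * K := by
    rintro p ⟨hpK, hpI⟩
    rw [Ideal.map, SetLike.mem_coe, Submodule.mem_span_set'] at hpI
    obtain ⟨m, c, g, rfl⟩ := hpI
    choose r hr hgr using fun i => (g i).2
    have h0 : ∑ i, r i • π (c i) = 0 := by
      refine Eq.trans ?_ (RingHom.mem_ker.mp hpK)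
      rw [map_sum]
      refine Finset.sum_congr rfl fun i _ => ?_
      rw [smul_eq_mul, map_mul, ← hgr i, Algebra.smul_def, IsScalarTower.algebraMap_apply R A P, AlgHom.commutes,
        ← IsScalarTower.algebraMap_apply, mul_comm]
    obtain ⟨ι, a, y, hay, har⟩ := Module.Flat.isTrivialRelation_of_sum_smul_eq_zero (R := R) (M := B) (f := r) (x := fun i => π (c i)) h0
    choose d hd using fun j => (show ∃ p : P, π p = y j from hπ (y j))
    have : ∑ i, c i • ((g i : P)) = ∑ i, (g i : P) * (c i - ∑ j, algebraMap R P (a i j) * d j) := by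
      have hz : ∑ i, (g i : P) * ∑ j, algebraMap R P (a i j) * d j = 0 := by
        rw [Finset.sum_congr rfl fun i _ => show (g i : P) * ∑ j, algebraMap R P (a i j) * d j = ∑ j, algebraMap R P (r i * a i j) * d j by
          rw [Finset.mul_sum]
          exact Finset.sum_congr rfl fun j _ => by rw [map_mul, hgr, mul_assoc]]
        rw [Finset.sum_comm]
        refine Finset.sum_eq_zero fun j _ => ?_
        rw [← Finset.sum_mul, ← map_sum, har, map_zero, zero_mul]
      simp only [mul_sub, Finset.sum_sub_distrib, hz, sub_zero, smul_eq_mul]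
      exact Finset.sum_congr rfl fun i _ => mul_comm _ _
    rw [this]
    refine Ideal.sum_mem _ fun i _ => Ideal.mul_mem_mul (hgr i ▸ Ideal.mem_map_of_mem _ (hr i)) ?_
    rw [RingHom.mem_ker, map_sub, map_sum, sub_eq_zero, show π (c i) = _ from hay i]
    refine Finset.sum_congr rfl fun j _ => ?_
    rw [map_mul, hd, IsScalarTower.algebraMap_apply R A P, AlgHom.commutes, ← IsScalarTower.algebraMap_apply,
      Algebra.smul_def]
  have hstep : K ≤ K' ⊔ I.map (algebraMap R P) * K := by
    intro p hp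
    have hq : MvPolynomial.map πA p ∈ Ideal.map (MvPolynomial.map πA) K' := by
      have : Ideal.map (MvPolynomial.map πA) K' = RingHom.ker π₀ := by
        refine Eq.trans ?_ hs
        rw [Ideal.map_span, Finset.coe_image, Set.image_image]
        congr 1
        refine Set.ext fun q => ⟨?_, fun hq => ⟨q, hq, hl q (show q ∈ RingHom.ker π₀ from hs ▸ Ideal.subset_span hq)⟩⟩
        rintro ⟨q', hq', rfl⟩
        show MvPolynomial.map πA (l q') ∈ _
        rwa [hl q' (show q' ∈ RingHom.ker π₀ from hs ▸ Ideal.subset_span hq')]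
      rw [this, RingHom.mem_ker, hcomm, show π p = 0 from hp, map_zero]
    rw [Ideal.mem_map_iff_of_surjective _ (MvPolynomial.map_surjective πA hA)] at hq
    obtain ⟨k, hk, hke⟩ := hq
    have hd : p - k ∈ K ⊓ I.map (algebraMap R P) := ⟨sub_mem hp (hK' hk), hIP ▸ (show MvPolynomial.map πA (p - k) = 0 by
      rw [map_sub, hke, sub_self])⟩
    exact Submodule.mem_sup.mpr ⟨k, hk, p - k, hflat hd, add_sub_cancel _ _⟩
  have hK : K = K' := by
    obtain ⟨m, hm⟩ := hI
    have h : ∀ j, K ≤ K' ⊔ I.map (algebraMap R P) ^ j := by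
      intro j
      induction j with
      | zero => rw [pow_zero, Ideal.one_eq_top, sup_top_eq]; exact le_top
      | succ j ih =>
        refine hstep.trans (sup_le le_sup_left ((Ideal.mul_mono_right ih).trans ?_))
        rw [Ideal.mul_sup, pow_succ']
        exact sup_le_sup_right Ideal.mul_le_right _
    refine le_antisymm ((h m).trans ?_) hK'
    rw [← Ideal.map_pow, hm]
    simp
  refine Algebra.FinitePresentation.of_surjective (A := P) (f := π) hπ ?_
  exact ⟨s.image l, hK.symm⟩

variable {X X' Y Y' S S' : Scheme.{u}} {iX : X ⟶ X'} {iY : Y ⟶ Y'} {iS : S ⟶ S'}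
    {f : X ⟶ Y} {f' : X' ⟶ Y'} {g : Y ⟶ S} {g' : Y' ⟶ S'}

theorem ker_app_eq_map [IsClosedImmersion iS] (hc : IsPullback iY g g' iS) {U : S'.Opens} (hU : IsAffineOpen U)
    {V : Y'.Opens} (hV : IsAffineOpen V) (e : V ≤ g' ⁻¹ᵁ U) :
    RingHom.ker (iY.app V).hom = (RingHom.ker (iS.app U).hom).map (g'.appLE U V e).hom := by
  obtain ⟨e₀, hp, hs, hs', hU₀, hV₀⟩ := isPushout_appLE hc hU hV e
  algebraize [(g'.appLE U V e).hom, (iS.app U).hom, (iY.app V).hom, (g.appLE _ _ e₀).hom,
    ((iY.app V).hom.comp (g'.appLE U V e).hom)]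
  haveI : IsScalarTower Γ(S', U) Γ(S, iS ⁻¹ᵁ U) Γ(Y, iY ⁻¹ᵁ V) :=
    IsScalarTower.of_algebraMap_eq' (congrArg CommRingCat.Hom.hom hp.w)
  haveI : Algebra.IsPushout Γ(S', U) Γ(S, iS ⁻¹ᵁ U) Γ(Y', V) Γ(Y, iY ⁻¹ᵁ V) :=
    CommRingCat.isPushout_iff_isPushout.mp hp.flip
  refine le_antisymm (ker_le_map (R := Γ(S', U)) (B := Γ(Y', V)) (R₀ := Γ(S, iS ⁻¹ᵁ U)) (B₀ := Γ(Y, iY ⁻¹ᵁ V)) hs) ?_
  rw [Ideal.map_le_iff_le_comap]
  intro a ha
  rw [Ideal.mem_comap, RingHom.mem_ker]
  refine congr($(hp.w).hom a).trans ?_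
  show (g.appLE _ _ e₀).hom ((iS.app U).hom a) = 0
  rw [RingHom.mem_ker.mp ha, map_zero]

theorem locallyOfFinitePresentation_of_deform [IsClosedImmersion iS] [Surjective iS] (hn : IsNilpotent iS.ker)
    (hcX : IsPullback iX (f ≫ g) (f' ≫ g') iS) (hcY : IsPullback iY g g' iS) (hc : IsPullback iX f f' iY)
    [Flat (f' ≫ g')] [LocallyOfFiniteType f'] [LocallyOfFinitePresentation f] : LocallyOfFinitePresentation f' := by
  rw [HasRingHomProperty.iff_exists_appLE (P := @LocallyOfFinitePresentation)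
    (RingHom.finitePresentation_stableUnderComposition.stableUnderCompositionWithLocalizationAway
      RingHom.finitePresentation_holdsForLocalizationAway).left]
  intro x
  obtain ⟨_, ⟨U, hU, rfl⟩, hxU, -⟩ :=
    S'.isBasis_affineOpens.exists_subset_of_mem_open (Set.mem_univ ((f' ≫ g') x)) isOpen_univ
  obtain ⟨_, ⟨V, hV, rfl⟩, hxV, hVU⟩ :=
    Y'.isBasis_affineOpens.exists_subset_of_mem_open (show f' x ∈ g' ⁻¹ᵁ U from hxU) (g' ⁻¹ᵁ U).isOpen
  obtain ⟨_, ⟨W, hW, rfl⟩, hxW, hWV⟩ :=
    X'.isBasis_affineOpens.exists_subset_of_mem_open (show x ∈ f' ⁻¹ᵁ V from hxV) (f' ⁻¹ᵁ V).isOpen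
  refine ⟨⟨V, hV⟩, ⟨W, hW⟩, hxW, hWV, ?_⟩
  haveI : IsClosedImmersion iY := MorphismProperty.of_isPullback hcY.flip ‹_›
  obtain ⟨e₀, hp, hsV, hsW, hV₀, hW₀⟩ := isPushout_appLE hc hV hW hWV
  have hWU : W ≤ (f' ≫ g') ⁻¹ᵁ U := fun w hw => hVU (hWV hw)
  have hB := (f' ≫ g').flat_appLE hU hW hWU
  rw [← Scheme.Hom.appLE_comp_appLE f' g' U V W hVU hWV, CommRingCat.hom_comp] at hB
  have hkX := ker_app_eq_map hcX hU hW hWU
  rw [← Scheme.Hom.appLE_comp_appLE f' g' U V W hVU hWV, CommRingCat.hom_comp] at hkX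
  have hft := f'.finiteType_appLE hV hW hWV
  have hfp := f.finitePresentation_appLE hV₀ hW₀ e₀
  algebraize [(g'.appLE U V hVU).hom, (f'.appLE V W hWV).hom, ((f'.appLE V W hWV).hom.comp (g'.appLE U V hVU).hom)]
  exact finitePresentation_of_nilpotent_of_flat (R := Γ(S', U)) (iY.app V).hom (iX.app W).hom (f.appLE _ _ e₀).hom
    congr(CommRingCat.Hom.hom $(hp.w.symm)) hsV _ (isNilpotent_ker_app hn hU) (ker_app_eq_map hcY hU hV hVU) hsW hkX hfp

end Groth.Agent.ThickProps
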