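import Groth.Agent.ThickProps.Descend
import Groth.Agent.FibrewiseCrit.Basic
import Mathlib.AlgebraicGeometry.Morphisms.SmoothFiber
import Mathlib.AlgebraicGeometry.Morphisms.Etale

/-!
# Smooth and étale morphisms deform along thickenings
-/

set_option autoImplicit false
set_option linter.style.haveILetI false

universe u

namespace Groth.Agent.ThickProps

open AlgebraicGeometry CategoryTheory Limits

variable {X X' S S' : Scheme.{u}} {iX : X ⟶ X'} {iS : S ⟶ S'} {f : X ⟶ S} {f' : X' ⟶ S'}

theorem isIso_residueFieldMap (i : S ⟶ S') [IsPreimmersion i] (y : S) : IsIso (i.residueFieldMap y) := by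
  rw [ConcreteCategory.isIso_iff_bijective]
  refine ⟨RingHom.injective _, ?_⟩
  intro z
  obtain ⟨a, rfl⟩ := S.residue_surjective y z
  obtain ⟨b, rfl⟩ := i.stalkMap_surjective y a
  exact ⟨S'.residue (i y) b, congr($(Scheme.residue_residueFieldMap i y).hom b)⟩

/-- Flat morphisms of finite presentation with smooth restriction to a thickening are smooth. -/
theorem smooth_of_isPullback [IsClosedImmersion iS] [Surjective iS] (hc : IsPullback iX f f' iS)
    [LocallyOfFinitePresentation f'] [Flat f'] [Smooth f] : Smooth f' := by
  refine Smooth.of_smooth_fiberToSpecResidueField f' fun y' => ?_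
  obtain ⟨y, rfl⟩ := iS.surjective y'
  haveI := isIso_residueFieldMap iS y
  have h := isPullback_fiberToSpecResidueField_of_isPullback hc y
  have hi := h.flip.isIso_snd_of_isIso
  haveI : Smooth (f.fiberToSpecResidueField y) := MorphismProperty.pullback_snd _ _ ‹Smooth f›
  have hs : Smooth (f.fiberToSpecResidueField y ≫ Spec.map (iS.residueFieldMap y)) := inferInstance
  have key : ∀ {A B C : Scheme.{u}} (a : A ⟶ B) (b : B ⟶ C), IsIso a → Smooth (a ≫ b) → Smooth b :=
    fun a b ha h => (MorphismProperty.cancel_left_of_respectsIso @Smooth a b).mp h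
  exact key _ _ hi (h.w.symm ▸ hs)

theorem etale_of_isPullback [IsClosedImmersion iS] [Surjective iS] (hc : IsPullback iX f f' iS)
    [LocallyOfFinitePresentation f'] [Flat f'] [Etale f] : Etale f' := by
  haveI := formallyUnramified_of_isPullback hc (Or.inr inferInstance)
  exact Etale.of_formallyUnramified_of_flat f'

end Groth.Agent.ThickProps
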